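import Cfsg.Agent.Lib.Helper6.St.All
import Cfsg.Agent.Lib.Helper3.CharBasic
import Cfsg.Agent.Lib.Helper3.CharOps
import Cfsg.Agent.Lib.Helper96.FrobeniusThm

/-! # The Steinberg character of a finite group with a (B,N)-pair (helper6)

`stChar P T = ∑_{J ⊆ T} (-1)^|J| 1_{P_J}^G` (for a finset `T` with `↑T = P.S`) is an irreducible character, of
degree `|B n0 B| / |B|` for any `n0 ∈ N` whose cell has maximal cardinality. -/

set_option autoImplicit false

namespace Cfsg.Agent.Lib.Helper6.St

open Cfsg Cfsg.Agent.Lib.Helper6 Cfsg.Agent.Lib.Helper6.Exch Cfsg.Agent.Lib.Helper3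
open scoped ComplexConjugate

variable {G : Type*} [Group G] [Fintype G] (P : Cfsg.BNPair G)

/-- the Steinberg class function of a (B,N)-pair: alternating sum of the permutation characters on the
parabolic subgroups `P_J`, `J ⊆ T` -/
noncomputable def stChar (T : Finset G) : G → ℂ :=
  fun g => ∑ J ∈ T.powerset, (-1 : ℂ) ^ J.card * fixedPointCharacter (P.parabolic (↑J : Set G)) g

/-- the permutation character on `P_J`, `J` a finset of `↥P.S` -/
noncomputable def phiJ (J : Finset P.S) : G → ℂ :=
  fixedPointCharacter (P.parabolic (Subtype.val '' (↑J : Set P.S)))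

/-- the same class function, indexed by finsets of `↥P.S` -/
noncomputable def stChar' [Fintype P.S] : G → ℂ :=
  ∑ J ∈ (Finset.univ : Finset P.S).powerset, ((-1 : ℂ) ^ J.card) • phiJ P J

omit [Fintype G] in
theorem stChar_eq [Fintype P.S] (T : Finset G) (hT : (↑T : Set G) = P.S) : stChar P T = stChar' P := by
  classical
  funext g
  unfold stChar stChar'
  rw [Finset.sum_apply]
  symm
  refine Finset.sum_nbij' (fun J => J.map (Function.Embedding.subtype _))
    (fun K => K.subtype (· ∈ P.S)) ?_ ?_ ?_ ?_ ?_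
  · intro J _
    rw [Finset.mem_powerset]
    intro x hx
    rw [Finset.mem_map] at hx
    obtain ⟨y, -, rfl⟩ := hx
    have : (y : G) ∈ (↑T : Set G) := by rw [hT]; exact y.2
    exact this
  · intro K _
    exact Finset.mem_powerset.2 (Finset.subset_univ _)
  · intro J _
    ext x
    simp
  · intro K hK
    rw [Finset.mem_powerset] at hK
    apply Finset.subtype_map_of_mem
    intro x hx
    have : x ∈ (↑T : Set G) := hK hx
    rwa [hT] at this
  · intro J _
    rw [Pi.smul_apply, smul_eq_mul, Finset.card_map, phiJ, Finset.coe_map]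
    rfl


/-! ## The norm -/

theorem classInner_phiJ (J K : Finset P.S) : classInner (phiJ P J) (phiJ P K) =
    (Nat.card {d : Wg P // LRed (S0320.sig P) (↑J : Set P.S) d ∧ RRed (S0320.sig P) (↑K : Set P.S) d} : ℂ) := by
  unfold phiJ
  rw [classInner_fixedPointCharacter, card_doubleCoset_parabolic, card_doubleCoset_WJ (exSys_sig P)]

open Classical in
theorem classInner_stChar' [Fintype P.S] [Fintype (Wg P)] : classInner (stChar' P) (stChar' P) = 1 := by
  unfold stChar'
  rw [classInner_sum_left]
  simp_rw [classInner_sum_right, classInner_smul_left, classInner_smul_right]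
  refine Eq.trans ?_ (alt_sum_lrred (exSys_sig P))
  apply Finset.sum_congr rfl; intro J _
  apply Finset.sum_congr rfl; intro K _
  rw [classInner_phiJ, map_pow, map_neg, map_one]
  ring


/-! ## The degree -/

open Classical in
theorem stChar'_one [Fintype P.S] [Fintype (Wg P)] {w0 : Wg P}
    (hw0 : ∀ i, ell (S0320.sig P) (w0 * S0320.sig P i) < ell (S0320.sig P) w0) :
    stChar' P 1 = (qidx P w0 : ℂ) := by
  unfold stChar'
  rw [Finset.sum_apply]
  refine Eq.trans ?_ (alt_sum_rred (exSys_sig P) (fun d => (qidx P d : ℂ)) hw0)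
  apply Finset.sum_congr rfl; intro J _
  rw [Pi.smul_apply, smul_eq_mul, phiJ, fixedPointCharacter_one, index_parabolic, Nat.cast_sum]

theorem qidx_pos (w : Wg P) : 0 < qidx P w := by
  have h := card_Cw P w
  have hne : (Cw P w).Nonempty := ⟨_, self_mem_C P _⟩
  have : 0 < Nat.card (Cw P w) := by
    have := hne.to_subtype
    exact Nat.card_pos
  rw [h] at this
  exact Nat.pos_of_mul_pos_right this

theorem qidx_mul {a b : Wg P}
    (hab : ell (S0320.sig P) (a * b) = ell (S0320.sig P) a + ell (S0320.sig P) b) :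
    qidx P (a * b) = qidx P a * qidx P b :=
  mul_of_step (exSys_sig P) (qidx P) (qidx_one P) (fun i w h => qidx_sig_mul P i w h) hab

theorem qidx_le_longest {w0 : Wg P}
    (hw0 : ∀ i, ell (S0320.sig P) (w0 * S0320.sig P i) < ell (S0320.sig P) w0) (w : Wg P) :
    qidx P w ≤ qidx P w0 := by
  have h := ell_add_of_all_rdesc (exSys_sig P) hw0 w
  have h2 : qidx P (w0 * w⁻¹ * w) = qidx P (w0 * w⁻¹) * qidx P w := by
    apply qidx_mul
    rw [inv_mul_cancel_right]
    exact h.symm
  rw [inv_mul_cancel_right] at h2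
  rw [h2]
  exact Nat.le_mul_of_pos_left _ (qidx_pos P _)


/-! ## Irreducibility -/

open Classical in
theorem isIrrCharacter_stChar' [Fintype P.S] [Fintype (Wg P)] : IsIrrCharacter G (stChar' P) := by
  obtain ⟨w0, -, hw0, -⟩ := exists_longest (exSys_sig P)
  set α : G → ℂ :=
    ∑ J ∈ (Finset.univ : Finset P.S).powerset.filter (fun J => Even J.card), phiJ P J with hαdef
  set β : G → ℂ :=
    ∑ J ∈ (Finset.univ : Finset P.S).powerset.filter (fun J => ¬ Even J.card), phiJ P J with hβdef
  have hα : IsCharacter G α := IsCharacter.sum _ _ (fun J _ => isCharacter_fixedPointCharacter _)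
  have hβ : IsCharacter G β := IsCharacter.sum _ _ (fun J _ => isCharacter_fixedPointCharacter _)
  have e : stChar' P = α - β := by
    unfold stChar'
    rw [← Finset.sum_filter_add_sum_filter_not _ (fun J : Finset P.S => Even J.card)]
    rw [sub_eq_add_neg, ← Finset.sum_neg_distrib]
    congr 1
    · apply Finset.sum_congr rfl
      intro J hJ
      rw [Finset.mem_filter] at hJ
      rw [hJ.2.neg_one_pow, one_smul]
    · apply Finset.sum_congr rfl
      intro J hJ
      rw [Finset.mem_filter, Nat.not_even_iff_odd] at hJ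
      rw [hJ.2.neg_one_pow, neg_one_smul]
  rw [e]
  apply Cfsg.Agent.Lib.Helper96.isIrrCharacter_of_sub hα hβ (d := qidx P w0)
  · rw [← e]; exact classInner_stChar' P
  · exact qidx_pos P w0
  · rw [← e]; exact stChar'_one P hw0

/-- **The Steinberg character of a finite group with a (B,N)-pair is irreducible.** -/
theorem isIrrCharacter_stChar (T : Finset G) (hT : (↑T : Set G) = P.S) :
    IsIrrCharacter G (stChar P T) := by
  classical
  have : Fintype P.S := Fintype.ofFinite _
  have : Fintype (Wg P) := Fintype.ofFinite _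
  rw [stChar_eq P T hT]
  exact isIrrCharacter_stChar' P

/-- **Its degree is the index `|B n0 B| / |B|` of any cell of maximal cardinality.** -/
theorem stChar_one_mul (T : Finset G) (hT : (↑T : Set G) = P.S) {n0 : G} (hn0 : n0 ∈ P.N)
    (hmax : ∀ n ∈ P.N, Nat.card (C P n) ≤ Nat.card (C P n0)) :
    stChar P T 1 * (Nat.card P.B : ℂ) = (Nat.card (C P n0) : ℂ) := by
  classical
  have : Fintype P.S := Fintype.ofFinite _
  have : Fintype (Wg P) := Fintype.ofFinite _
  obtain ⟨w0, -, hw0, -⟩ := exists_longest (exSys_sig P)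
  rw [stChar_eq P T hT, stChar'_one P hw0]
  have h1 : Nat.card (C P n0) = qidx P (QuotientGroup.mk (⟨n0, hn0⟩ : P.N) : Wg P) * Nat.card P.B := by
    rw [← card_Cw, Cw_mk]
  have h4 := qidx_le_longest P hw0 (QuotientGroup.mk (⟨n0, hn0⟩ : P.N) : Wg P)
  obtain ⟨m, rfl⟩ := QuotientGroup.mk_surjective w0
  have h2 : Nat.card (C P (m : G)) = qidx P (QuotientGroup.mk m : Wg P) * Nat.card P.B := by
    rw [← card_Cw, Cw_mk]
  have h3 := hmax m m.2
  have hB : 0 < Nat.card P.B := Nat.card_pos
  have h5 : qidx P (QuotientGroup.mk m : Wg P) = qidx P (QuotientGroup.mk (⟨n0, hn0⟩ : P.N) : Wg P) := by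
    apply le_antisymm
    · rw [h1, h2] at h3
      exact Nat.le_of_mul_le_mul_right h3 hB
    · exact h4
  rw [h1, h5, Nat.cast_mul]

end Cfsg.Agent.Lib.Helper6.St
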