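import Cfsg.Agent.Lib.Helper6.St.Main
import Cfsg.Agent.Lib.Helper80.St_T0
import Cfsg.Agent.Lib.Helper72.St_T4

/-! # The Steinberg character of a (B,N)-pair restricted to `B` (helper6) -/

set_option autoImplicit false

namespace Cfsg.Agent.Lib.Helper6.St

open Cfsg Cfsg.Agent.Lib.Helper6 Cfsg.Agent.Lib.Helper6.Exch Cfsg.Agent.Lib.Helper3

variable {G : Type*} [Group G] [Fintype G] (P : Cfsg.BNPair G)

open Classical in
theorem stChar'_borel [Fintype P.S] [Fintype (Wg P)] {w0 : Wg P}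
    (hw0 : ∀ i, ell (S0320.sig P) (w0 * S0320.sig P i) < ell (S0320.sig P) w0) (b : P.B) :
    stChar' P (b : G) = fixedPointCharacter ((Bw P w0).subgroupOf P.B) b := by
  unfold stChar'
  rw [Finset.sum_apply]
  refine Eq.trans ?_ (alt_sum_rred (exSys_sig P)
    (fun d => fixedPointCharacter ((Bw P d).subgroupOf P.B) b) hw0)
  apply Finset.sum_congr rfl; intro J _
  rw [Pi.smul_apply, smul_eq_mul, phiJ, fixedPointCharacter_parabolic_borel]

theorem eq_one_of_qidx_eq_one {v : Wg P} (hv : qidx P v = 1) : v = 1 := by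
  by_contra hne
  obtain ⟨L, hL, hw, hlen⟩ := exists_isRed_eq (exSys_sig P) v
  cases L with
  | nil => exact hne (by rw [← hw]; rfl)
  | cons i L =>
    have hL' : IsRed (S0320.sig P) L := hL.tail
    have e : v = S0320.sig P i * wp (S0320.sig P) L := by rw [← hw]; rfl
    have h1 : ell (S0320.sig P) (wp (S0320.sig P) L) < ell (S0320.sig P) (S0320.sig P i * wp (S0320.sig P) L) := by
      rw [← e, ← hlen, IsRed.ell_eq hL']
      simp
    have h2 := qidx_sig_mul P i _ h1
    rw [← e, hv] at h2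
    have h3 := two_le_qidx_sig P i
    have h4 := qidx_pos P (wp (S0320.sig P) L)
    have : 2 * 1 ≤ qidx P (S0320.sig P i) * qidx P (wp (S0320.sig P) L) := Nat.mul_le_mul h3 h4
    omega

theorem mk_eq_longest_of_max {w0 : Wg P}
    (hw0 : ∀ i, ell (S0320.sig P) (w0 * S0320.sig P i) < ell (S0320.sig P) w0)
    {n0 : G} (hn0 : n0 ∈ P.N) (hmax : ∀ n ∈ P.N, Nat.card (C P n) ≤ Nat.card (C P n0)) :
    (QuotientGroup.mk (⟨n0, hn0⟩ : P.N) : Wg P) = w0 := by
  set w : Wg P := QuotientGroup.mk (⟨n0, hn0⟩ : P.N) with hwdef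
  have h1 : Nat.card (C P n0) = qidx P w * Nat.card P.B := by
    rw [← card_Cw, hwdef, Cw_mk]
  have h4 := qidx_le_longest P hw0 w
  obtain ⟨m, hm⟩ := QuotientGroup.mk_surjective w0
  have h2 : Nat.card (C P (m : G)) = qidx P w0 * Nat.card P.B := by
    rw [← card_Cw, ← hm, Cw_mk]
  have h3 := hmax m m.2
  have hB : 0 < Nat.card P.B := Nat.card_pos
  have h5 : qidx P w0 = qidx P w := by
    apply le_antisymm
    · rw [h1, h2] at h3
      exact Nat.le_of_mul_le_mul_right h3 hB
    · exact h4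
  have h := ell_add_of_all_rdesc (exSys_sig P) hw0 w
  have h6 : qidx P (w0 * w⁻¹ * w) = qidx P (w0 * w⁻¹) * qidx P w := by
    apply qidx_mul
    rw [inv_mul_cancel_right]
    exact h.symm
  rw [inv_mul_cancel_right, h5] at h6
  have h7 : qidx P (w0 * w⁻¹) = 1 := by
    have hpos := qidx_pos P w
    have : 1 * qidx P w = qidx P (w0 * w⁻¹) * qidx P w := by rw [one_mul]; exact h6
    exact (Nat.eq_of_mul_eq_mul_right hpos this).symm
  have h8 := eq_one_of_qidx_eq_one P h7
  rw [mul_inv_eq_one] at h8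
  exact h8.symm

/-- **The Steinberg character on `B` is the permutation character of `B` on the cosets of `B ∩ n0 B n0⁻¹`**,
`n0 ∈ N` any element whose cell has maximal cardinality. -/
theorem stChar_borel (T : Finset G) (hT : (↑T : Set G) = P.S) {n0 : G} (hn0 : n0 ∈ P.N)
    (hmax : ∀ n ∈ P.N, Nat.card (C P n) ≤ Nat.card (C P n0)) (b : P.B) :
    stChar P T (b : G) =
      fixedPointCharacter ((P.B ⊓ P.B.map (MulAut.conj n0).toMonoidHom).subgroupOf P.B) b := by
  classical
  have : Fintype P.S := Fintype.ofFinite _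
  have : Fintype (Wg P) := Fintype.ofFinite _
  obtain ⟨w0, -, hw0, -⟩ := exists_longest (exSys_sig P)
  rw [stChar_eq P T hT, stChar'_borel P hw0 b, ← mk_eq_longest_of_max P hw0 hn0 hmax, Bw_mk]

end Cfsg.Agent.Lib.Helper6.St
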