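import Cfsg.Agent.Lib.Helper38.FlagA
import Cfsg.Agent.Lib.Helper12.PermChar2
import Cfsg.Prelude.Def_Characters

/-! # Permutation characters on cosets: character, degree, inner product = number of double cosets (helper6) -/

set_option autoImplicit false

namespace Cfsg.Agent.Lib.Helper6.St

open Cfsg
open scoped ComplexConjugate

variable {G : Type*} [Group G] [Fintype G]

theorem isCharacter_fixedPointCharacter (H : Subgroup G) : IsCharacter G (fixedPointCharacter H) := by
  classical
  have : Fintype (G ⧸ H) := Fintype.ofFinite _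
  exact Cfsg.Agent.Lib.Helper12.PermChar.isCharacter_permChar (G := G) (Ω := G ⧸ H)

omit [Fintype G] in
theorem fixedPointCharacter_one (H : Subgroup G) : fixedPointCharacter H 1 = (H.index : ℂ) := by
  unfold fixedPointCharacter
  congr 1
  rw [Subgroup.index]
  apply Nat.card_congr
  exact ⟨fun x => x.1, fun x => ⟨x, by simp⟩, fun x => rfl, fun x => rfl⟩

/-- the orbit of the pair `(H, gK)` -/
noncomputable def sg1_orb (H K : Subgroup G) (g : G) :
    Quotient (MulAction.orbitRel G ((G ⧸ H) × (G ⧸ K))) :=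
  Quotient.mk _ ((QuotientGroup.mk 1 : G ⧸ H), (QuotientGroup.mk g : G ⧸ K))

omit [Fintype G] in
theorem sg1_orb_eq_iff (H K : Subgroup G) (g g' : G) :
    sg1_orb H K g = sg1_orb H K g' ↔ ∃ h ∈ H, ∃ k ∈ K, g' = h * g * k := by
  unfold sg1_orb
  rw [Quotient.eq, MulAction.orbitRel_apply, MulAction.mem_orbit_iff]
  constructor
  · rintro ⟨x, hx⟩
    rw [Prod.smul_mk, Prod.mk.injEq] at hx
    obtain ⟨h1, h2⟩ := hx
    rw [MulAction.Quotient.smul_mk, QuotientGroup.eq] at h1 h2
    rw [smul_eq_mul, mul_one, inv_mem_iff] at h1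
    rw [smul_eq_mul] at h2
    refine ⟨x⁻¹, inv_mem (by simpa using h1), g⁻¹ * (x * g'), ?_, ?_⟩
    · have : g⁻¹ * (x * g') = ((x * g')⁻¹ * g)⁻¹ := by group
      rw [this]; exact inv_mem h2
    · group
  · rintro ⟨h, hh, k, hk, rfl⟩
    refine ⟨h⁻¹, ?_⟩
    rw [Prod.smul_mk, Prod.mk.injEq, MulAction.Quotient.smul_mk, MulAction.Quotient.smul_mk,
      QuotientGroup.eq, QuotientGroup.eq, smul_eq_mul, smul_eq_mul]
    constructor
    · simpa using hh
    · have : (h⁻¹ * (h * g * k))⁻¹ * g = k⁻¹ := by group
      rw [this]; exact inv_mem hk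

omit [Fintype G] in
theorem sg1_orb_surj (H K : Subgroup G) (o : Quotient (MulAction.orbitRel G ((G ⧸ H) × (G ⧸ K)))) :
    ∃ g, sg1_orb H K g = o := by
  induction o using Quotient.inductionOn with
  | h p =>
    obtain ⟨a, b⟩ := p
    obtain ⟨a, rfl⟩ := QuotientGroup.mk_surjective a
    obtain ⟨b, rfl⟩ := QuotientGroup.mk_surjective b
    refine ⟨a⁻¹ * b, ?_⟩
    unfold sg1_orb
    rw [Quotient.eq, MulAction.orbitRel_apply, MulAction.mem_orbit_iff]
    refine ⟨a⁻¹, ?_⟩
    rw [Prod.smul_mk, MulAction.Quotient.smul_mk, MulAction.Quotient.smul_mk, smul_eq_mul, smul_eq_mul,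
      inv_mul_cancel]

theorem classInner_fixedPointCharacter (H K : Subgroup G) :
    classInner (fixedPointCharacter H) (fixedPointCharacter K) =
      (Nat.card (DoubleCoset.Quotient (H : Set G) (K : Set G)) : ℂ) := by
  have hconj : ∀ g, conj (fixedPointCharacter K g) = fixedPointCharacter K g := by
    intro g
    unfold fixedPointCharacter
    exact Complex.conj_natCast _
  unfold classInner
  simp only [hconj]
  rw [Cfsg.Agent.Lib.Helper38.Flag.inner_fpc_eq_card_orbits]
  congr 1
  symm
  let f : DoubleCoset.Quotient (H : Set G) (K : Set G) →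
      Quotient (MulAction.orbitRel G ((G ⧸ H) × (G ⧸ K))) :=
    Quotient.lift (sg1_orb H K) (by
      intro a b hab
      have hab' : (DoubleCoset.setoid (H : Set G) (K : Set G)).r a b := hab
      rw [DoubleCoset.rel_iff] at hab'
      exact (sg1_orb_eq_iff H K a b).mpr hab')
  apply Nat.card_congr (Equiv.ofBijective f ⟨?_, ?_⟩)
  · intro a b
    induction a using Quotient.inductionOn with
    | h a =>
      induction b using Quotient.inductionOn with
      | h b =>
        intro hab
        have hab' : sg1_orb H K a = sg1_orb H K b := hab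
        rw [sg1_orb_eq_iff] at hab'
        apply Quotient.sound
        show (DoubleCoset.setoid (H : Set G) (K : Set G)).r a b
        rw [DoubleCoset.rel_iff]
        exact hab'
  · intro o
    obtain ⟨g, hg⟩ := sg1_orb_surj H K o
    exact ⟨Quotient.mk _ g, hg⟩

end Cfsg.Agent.Lib.Helper6.St
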