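import Cfsg.Agent.Lib.Helper6.St.GDefs
import Cfsg.Agent.Lib.Helper6.St.SG1
import Cfsg.Agent.Lib.Helper80.St_SW1
import Cfsg.Agent.Lib.Helper80.St_SW2
import Cfsg.Agent.Lib.Helper31.St_SW3
import Cfsg.Agent.Lib.Helper31.St_SC4
import Cfsg.Agent.Lib.Helper42.St_SW4
import Cfsg.Agent.Lib.Helper42.St_SC3
import Cfsg.Agent.Lib.Helper75.St_SW5
import Cfsg.Agent.Lib.Helper75.St_SC1
import Cfsg.Agent.Lib.Helper75.St_SC2
import Cfsg.Agent.Lib.Helper75.St_SG4
import Cfsg.Agent.Lib.Helper80.St_SG5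
import Cfsg.Agent.Lib.Helper80.St_SG6
import Cfsg.Agent.Lib.Helper93.St_SG2
import Cfsg.Agent.Lib.Helper93.St_SG3

/-! # Steinberg project (helper6): all leaves of wave 1 (exchange systems, (B,N)-pairs, cell indices) -/
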