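import Cfsg.Agent.Lib.Helper6.St.WDefs
import Cfsg.Agent.S0320

/-! # The Weyl group of a (B,N)-pair as an exchange system; cells indexed by `W` (helper6, Steinberg project) -/

set_option autoImplicit false

namespace Cfsg.Agent.Lib.Helper6.St

open Cfsg Cfsg.Agent.Lib.Helper6 Cfsg.Agent.Lib.Helper6.Exch Cfsg.Agent.S0320

variable {G : Type*} [Group G] (P : Cfsg.BNPair G)

/-- `B ⊓ N` is normal in `N` -/
instance instNormalH : ((P.B ⊓ P.N).subgroupOf P.N).Normal := by
  constructor
  intro t ht n
  rw [Subgroup.mem_subgroupOf] at ht ⊢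
  have := conj_mem_H P n.2 ht
  simpa using this

/-- the Weyl group `N / (B ⊓ N)` -/
abbrev Wg : Type _ := P.N ⧸ (P.B ⊓ P.N).subgroupOf P.N

/-- the Weyl group with its distinguished generators satisfies the exchange condition -/
theorem exSys_sig : ExSys (sig P) where
  sq := by
    intro i
    rw [sig, ← QuotientGroup.mk_mul, QuotientGroup.eq_one_iff, Subgroup.mem_subgroupOf]
    exact sq_mem_H P i.2
  gen := by
    intro w
    obtain ⟨n, rfl⟩ := QuotientGroup.mk_surjective w
    obtain ⟨L0, hr⟩ := hasRep_of_mem_N (P := P) n.2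
    obtain ⟨L0', hL0'⟩ := exists_lift P L0 hr.1
    refine ⟨L0', ?_⟩
    rw [wp_sig, mk_eq_iff]
    have := hr.2.2
    rw [← hL0'] at this
    exact this
  exch := by
    intro L i hL hiL
    rw [S0320.isRed_iff] at hL hiL
    rw [gp_cons, List.length_cons] at hiL
    have hrep := hasRep_of_mem_N (gp_mem P L)
    have h1 := len_smul_le (J := P.S) subset_rfl i.2 hrep
    have h2 := len_smul_ne (J := P.S) subset_rfl hrep i.2
    have hlt : len P P.S ((i : G) * gp P L) < (L.map Subtype.val).length := by
      rw [List.length_map]; omega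
    obtain ⟨j, hj, hjB⟩ := exchange_rep (L.map Subtype.val) (map_val_mem P L)
      (by rw [List.length_map]; exact hL) i i.2 hlt
    rw [List.length_map] at hj
    refine ⟨j, hj, ?_⟩
    rw [wp_eq_iff]
    rw [← List.map_take, ← List.map_take] at hjB
    simpa [gp] using hjB

/-- the cell `B w B` of an element of the Weyl group -/
noncomputable def Cw (w : Wg P) : Set G := C P ((Quotient.out w : P.N) : G)

lemma Cw_mk (n : P.N) : Cw P (QuotientGroup.mk n : Wg P) = C P (n : G) := by
  unfold Cw
  apply C_eq_of_eqv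
  have h : (QuotientGroup.mk (Quotient.out (QuotientGroup.mk n : Wg P)) : Wg P) = QuotientGroup.mk n :=
    Quotient.out_eq _
  have := (mk_eq_iff P _ _).mp h.symm
  exact this

/-- the two length functions agree -/
lemma ell_mk (n : P.N) : ell (sig P) (QuotientGroup.mk n : Wg P) = len P P.S (n : G) := by
  apply le_antisymm
  · obtain ⟨L0, hL0, hr⟩ := (hasRep_of_mem_N (P := P) n.2).exists_rep_len
    obtain ⟨L, hL⟩ := exists_lift P L0 hr.1
    have hw : wp (sig P) L = (QuotientGroup.mk n : Wg P) := by
      rw [wp_sig, mk_eq_iff]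
      have := hr.2.2
      rw [← hL] at this
      exact this
    rw [← hL0, ← hw]
    have : L.length = L0.length := by rw [← hL, List.length_map]
    rw [← this]
    exact ell_wp_le _ L
  · obtain ⟨L, hw, hL⟩ := exists_wp_eq_ell (exSys_sig P) (QuotientGroup.mk n : Wg P)
    rw [← hL]
    rw [wp_sig, mk_eq_iff] at hw
    have hrep : Rep P P.S (L.map Subtype.val) (n : G) := ⟨map_val_mem P L, n.2, hw⟩
    have := len_le_of_rep hrep
    rwa [List.length_map] at this

end Cfsg.Agent.Lib.Helper6.St
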