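import Cfsg.Agent.Lib.Helper6.Exchange

/-! # Groups generated by involutions with the exchange condition: definitions (helper6, Steinberg project) -/

set_option autoImplicit false

namespace Cfsg.Agent.Lib.Helper6.St

open Cfsg.Agent.Lib.Helper6.Exch

variable {W : Type*} [Group W] {ι : Type*}

/-- `W` is generated by the involutions `σ i` and satisfies the exchange condition. -/
structure ExSys (σ : ι → W) : Prop where
  sq : ∀ i, σ i * σ i = 1
  gen : ∀ w : W, ∃ L : List ι, wp σ L = w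
  exch : Exchange σ

/-- the length of `w` with respect to the generators `σ i` -/
noncomputable def ell (σ : ι → W) (w : W) : ℕ :=
  sInf {k | ∃ L : List ι, L.length = k ∧ wp σ L = w}

/-- no right descent in `J` -/
def RRed (σ : ι → W) (J : Set ι) (w : W) : Prop := ∀ j ∈ J, ell σ w < ell σ (w * σ j)

/-- no left descent in `J` -/
def LRed (σ : ι → W) (J : Set ι) (w : W) : Prop := ∀ j ∈ J, ell σ w < ell σ (σ j * w)

/-- the parabolic subgroup `W_J` -/
def WJ (σ : ι → W) (J : Set ι) : Subgroup W := Subgroup.closure (σ '' J)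

variable {σ : ι → W}

lemma ell_wp_le (σ : ι → W) (L : List ι) : ell σ (wp σ L) ≤ L.length :=
  Nat.sInf_le ⟨L, rfl, rfl⟩

lemma exists_wp_eq_ell (h : ExSys σ) (w : W) : ∃ L : List ι, wp σ L = w ∧ L.length = ell σ w := by
  have hne : {k | ∃ L : List ι, L.length = k ∧ wp σ L = w}.Nonempty := by
    obtain ⟨L, hL⟩ := h.gen w
    exact ⟨L.length, L, rfl, hL⟩
  obtain ⟨L, hL, hw⟩ := Nat.sInf_mem hne
  exact ⟨L, hw, hL⟩

lemma isRed_iff_ell (L : List ι) : IsRed σ L ↔ ell σ (wp σ L) = L.length := by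
  constructor
  · intro hL
    apply le_antisymm (ell_wp_le σ L)
    have hne : {k | ∃ L' : List ι, L'.length = k ∧ wp σ L' = wp σ L}.Nonempty :=
      ⟨L.length, L, rfl, rfl⟩
    refine le_csInf hne ?_
    rintro k ⟨L', hL', hw⟩
    rw [← hL']
    exact hL L' hw
  · intro hL L' hw
    rw [← hL, ← hw]
    exact ell_wp_le σ L'

lemma exists_isRed_eq (h : ExSys σ) (w : W) :
    ∃ L : List ι, IsRed σ L ∧ wp σ L = w ∧ L.length = ell σ w := by
  obtain ⟨L, hw, hL⟩ := exists_wp_eq_ell h w
  refine ⟨L, ?_, hw, hL⟩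
  rw [isRed_iff_ell, hw, hL]

lemma IsRed.ell_eq {L : List ι} (hL : IsRed σ L) : ell σ (wp σ L) = L.length :=
  (isRed_iff_ell L).mp hL

end Cfsg.Agent.Lib.Helper6.St
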